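import Cfsg.Agent.Lib.Helper9.TC2Pack

set_option autoImplicit false
set_option maxRecDepth 100000

namespace Cfsg.Agent.Helper9.TCData.S44C1
open Cfsg.Agent.Helper9.TC2
noncomputable def entT_0 : BT := (BT.node 2 (BT.leaf 0x8ee0a721b95d9673d0e52889314410) (BT.node 4 (BT.leaf 0x92df97a99762136414d33107118820) (BT.leaf 0x8aa1b765a85552451d162cc8210031)))

noncomputable def cerT_0 : BT := (BT.node 2 (BT.leaf 0x49080081080080044) (BT.node 4 (BT.leaf 0x64200201944200200c) (BT.leaf 0x80a61082000a61080)))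

noncomputable def lkT_0 : BT := (BT.leaf 0x0)

noncomputable def lcT_0 : BT := (BT.leaf 0x0)

noncomputable def pnT_0 : BT := (BT.leaf 0xa99217964113091800)

noncomputable def clsT_0 : BT := (BT.leaf 0xba9876543210)

noncomputable def repT_0 : BT := (BT.leaf 0xba9876543210)

noncomputable def tauT_0 : BT := (BT.node 2 (BT.leaf 0xba8967452310) (BT.node 4 (BT.leaf 0xb9a786534120) (BT.leaf 0xab9854763201)))


end Cfsg.Agent.Helper9.TCData.S44C1
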