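import Cfsg.Agent.Lib.Helper9.TC2Cox
import Cfsg.Agent.Lib.Helper9.TC2Aux
import Cfsg.Agent.Lib.Helper9.TC2BSGS
import Cfsg.Agent.Lib.Helper9.TC2Pack
import Cfsg.Agent.Lib.Helper9.TCData.S44C1.P0

set_option autoImplicit false
set_option maxRecDepth 100000

namespace Cfsg.Agent.Helper9.TCData.S44C1
open Cfsg.Agent.Helper9.TC2
/-- The rotated relators. -/
noncomputable def rotT : WT := (WT.node 3 (WT.node 1 (WT.leaf [0, 2, 0, 2]) (WT.node 2 (WT.leaf [0, 1, 0, 1, 0, 1, 2, 1, 0, 1, 0, 1, 0, 1, 0, 1, 2, 1, 0, 1]) (WT.leaf [1, 0, 1, 0, 1, 2, 1, 0, 1, 0, 1, 0, 1, 0, 1, 2, 1, 0, 1, 0]))) (WT.node 4 (WT.leaf [1, 2, 1, 2, 1, 2]) (WT.node 5 (WT.leaf [2, 1, 2, 1, 2, 1]) (WT.leaf [2, 0, 2, 0]))))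

/-- The sources of the rotated relators: relator and rotation. -/
def rotSrc : List (ℕ × ℕ) := [(2, 2), (10, 4), (10, 5), (5, 2), (5, 1), (2, 1)]

/-- The relators, as words of columns. -/
def relWords : List (List ℕ) := [[0, 0], [0, 1, 0, 1, 0, 1, 0, 1, 0, 1, 0, 1, 0, 1, 0, 1, 0, 1, 0, 1], [0, 2, 0, 2], [1, 0, 1, 0, 1, 0, 1, 0, 1, 0, 1, 0, 1, 0, 1, 0, 1, 0, 1, 0], [1, 1], [1, 2, 1, 2, 1, 2], [2, 0, 2, 0], [2, 1, 2, 1, 2, 1], [2, 2], [2, 1, 0, 2, 0, 1, 2, 1], [2, 1, 0, 1, 0, 1, 0, 1, 0, 1, 2, 1, 0, 1, 0, 1, 0, 1, 0, 1]]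

/-- The words checked on the permutation model. -/
def mwords : List (List ℕ) := [[0, 1, 0, 1, 0, 1, 0, 1, 0, 1, 0, 1, 0, 1, 0, 1, 0, 1, 0, 1], [0, 2, 0, 2], [1, 2, 1, 2, 1, 2], [2, 1, 0, 2, 0, 1, 2, 1], [2, 1, 0, 1, 0, 1, 0, 1, 0, 1, 2, 1, 0, 1, 0, 1, 0, 1, 0, 1]]

/-- The table. -/
noncomputable def tab : Tab where
  k := 3
  inv := fun c => c
  N := 12
  n := 12
  Tmax := 37
  wn := 4
  mn := 0xf
  subs := [[0], [1]]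
  rot := fun i => rotT.getF i
  ent := fun c i => bget2 entT_0 1 10 10 0x3ff 1023 c i
  cer := fun c i => bget2 cerT_0 1 11 6 0x3f 2047 c i
  tau := fun c i => bget2 tauT_0 1 12 4 0xf 4095 c i
  lk := fun i => bget lkT_0 14 1 0x1 16383 i
  lc := fun i => bget lcT_0 14 1 0x1 16383 i
  pn := fun i => bget pnT_0 11 6 0x3f 2047 i
  cls := fun i => bget clsT_0 12 4 0xf 4095 i
  rep := fun i => bget repT_0 12 4 0xf 4095 i

end Cfsg.Agent.Helper9.TCData.S44C1
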